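import Cfsg.Agent.Classical.PrimeDerangement.UnitarySp.Std
import Cfsg.Agent.Classical.PrimeDerangement.SpTensor
import Cfsg.Agent.Classical.Semisimple.Singer
import Cfsg.Agent.Classical.PrimeDerangement.OddModel

/-!
Elements of prime order of symplectic groups centralising no skew root of a non-square.
-/

set_option autoImplicit false
set_option maxHeartbeats 800000

namespace CfsgLib.Classical.PrimeDerangement.UnitarySp

open Matrix Polynomial

variable {F : Type*} [Field F] {d : ℕ}

local notation "κ" => (Fin d ⊕ Fin d)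

/-- The statement that `x` commutes with no skew root of `μ`. -/
def NoSkewRoot (μ : F) (x : GL κ F) : Prop :=
  ∀ j : Matrix κ κ F, j * j = μ • 1 →
    (∀ u v, Cfsg.sympForm d F (j *ᵥ u) v = -Cfsg.sympForm d F u (j *ᵥ v)) →
    (x : Matrix κ κ F) * j ≠ j * (x : Matrix κ κ F)

/-- A transvection. -/
theorem exists_noRoot_p {p : ℕ} [CharP F p] (hd : 0 < d) {μ : F} (hμ : ∀ c : F, c * c ≠ μ) :
    ∃ x ∈ Cfsg.spGL d F, x ^ p = 1 ∧ x ≠ 1 ∧ NoSkewRoot μ x := by
  classical
  set v : κ → F := Symp.stdE ⟨0, hd⟩ with hv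
  set w : κ → F := Symp.stdF ⟨0, hd⟩ with hw
  set x := AltFormTransv.sympT (SympFormStd.isSymplecticForm d F) v 1 with hx
  set N := (x : Matrix κ κ F) - 1 with hN
  have hNapp : ∀ y, N *ᵥ y = Cfsg.sympForm d F y v • v := fun y => by
    rw [hN, Matrix.sub_mulVec, hx, AltFormTransv.sympT_mulVec, Matrix.one_mulVec, one_mul, add_sub_cancel_left]
  have hwv : Cfsg.sympForm d F w v = -1 := by rw [hw, hv, Symp.form_stdF_stdE, if_pos rfl]
  have hv0 : v ≠ 0 := fun h => by simpa [hv, Symp.stdE] using congrFun h (Sum.inr ⟨0, hd⟩)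
  have hNN : N * N = 0 := Matrix.mulVec_injective (funext fun y => by
    rw [← Matrix.mulVec_mulVec, hNapp, hNapp, Symp.form_smul_left, Symp.form_self, mul_zero, zero_smul,
      Matrix.zero_mulVec])
  have hpow : ∀ k : ℕ, ((x ^ k : GL κ F) : Matrix κ κ F) = 1 + (k : F) • N := by
    intro k
    induction k with
    | zero => simp
    | succ k ih =>
      rw [pow_succ, Units.val_mul, ih, show (x : Matrix κ κ F) = 1 + N by rw [hN]; abel, mul_add, mul_one, add_mul,
        one_mul, Matrix.smul_mul, hNN, smul_zero, add_zero, Nat.cast_succ, add_smul, one_smul, add_assoc]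
  refine ⟨x, SympFormStd.sympT_mem_spGL v 1, Units.ext (by
    rw [hpow, CharP.cast_eq_zero, zero_smul, add_zero, Units.val_one]), fun h => ?_, fun j hjj _ hcomm => ?_⟩
  · have := hNapp w
    rw [hN, h, Units.val_one, sub_self, Matrix.zero_mulVec, hwv, neg_one_smul] at this
    exact hv0 (neg_eq_zero.1 this.symm)
  · have hc : N * j = j * N := by rw [hN, sub_mul, mul_sub, one_mul, mul_one, hcomm]
    have h1 := congrArg (fun M => M *ᵥ w) hc
    simp only [← Matrix.mulVec_mulVec, hNapp, hwv, neg_one_smul, Matrix.mulVec_neg] at h1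
    set c := -Cfsg.sympForm d F (j *ᵥ w) v with hc'
    have hjv : j *ᵥ v = c • v := by rw [hc', neg_smul, h1, neg_neg]
    have h2 : j *ᵥ (j *ᵥ v) = μ • v := by rw [Matrix.mulVec_mulVec, hjj, Matrix.smul_mulVec, Matrix.one_mulVec]
    rw [hjv, Matrix.mulVec_smul, hjv, smul_smul] at h2
    exact hμ c (smul_left_injective F hv0 h2)

variable [Fintype F] {r : ℕ} [Fact r.Prime]

/-- Order of `q` modulo `r` odd. -/
theorem exists_noRoot_odd (h2 : (2 : F) ≠ 0) (hr2 : r ≠ 2) (hrF : (r : F) ≠ 0)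
    (hodd : Odd (orderOf (Fintype.card F : ZMod r))) (hid : orderOf (Fintype.card F : ZMod r) ≤ d) {μ : F}
    (hμ : ∀ c : F, c * c ≠ μ) :
    ∃ x ∈ Cfsg.spGL d F, x ^ r = 1 ∧ x ≠ 1 ∧ NoSkewRoot μ x := by
  classical
  set i := orderOf (Fintype.card F : ZMod r) with hi
  obtain ⟨x, hx, hxr, hx1, -, P, hW⟩ := exists_odd_model (d := d) hr2 hrF hodd hid
  refine ⟨x, hx, hxr, hx1, fun j hjj _ hcomm => ?_⟩
  set X0 : Matrix κ κ F := (x : Matrix κ κ F) with hX0
  let W := LinearMap.ker (aeval X0 P).mulVecLin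
  change Module.finrank F W = i at hW
  have hjW : ∀ w ∈ W, (Matrix.mulVecLin j) w ∈ W := by
    intro w hw
    rw [LinearMap.mem_ker, Matrix.mulVecLin_apply] at hw ⊢
    rw [Matrix.mulVecLin_apply, Matrix.mulVec_mulVec]
    have hc : Commute (aeval X0 P) j := by
      have h4 : ∀ Q : F[X], Commute (aeval X0 Q) j := by
        intro Q
        induction Q using Polynomial.induction_on' with
        | add p q hp hq => rw [map_add]; exact hp.add_left hq
        | monomial n c =>
          rw [aeval_monomial]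
          exact (Algebra.commute_algebraMap_left c _).mul_left ((show Commute X0 j from hcomm).pow_left n)
      exact h4 P
    rw [hc.eq, ← Matrix.mulVec_mulVec, hw, Matrix.mulVec_zero]
  set jW := (Matrix.mulVecLin j).restrict hjW with hjW'
  have hdet : LinearMap.det jW * LinearMap.det jW = μ ^ i := by
    rw [← map_mul, show jW * jW = μ • (1 : Module.End F W) from LinearMap.ext fun w => Subtype.ext (by
      show j *ᵥ (j *ᵥ w.1) = μ • w.1
      rw [Matrix.mulVec_mulVec, hjj, Matrix.smul_mulVec, Matrix.one_mulVec]), LinearMap.det_smul, map_one, mul_one, hW]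
  obtain ⟨k, hk⟩ := hodd
  have hμ0 : μ ≠ 0 := fun h => hμ 0 (by rw [h, mul_zero])
  refine hμ (LinearMap.det jW / μ ^ k) ?_
  rw [div_mul_div_comm, hdet, hk, div_eq_iff (mul_ne_zero (pow_ne_zero _ hμ0) (pow_ne_zero _ hμ0))]
  ring

/-- Order of `q` modulo `r` divisible by four. -/
theorem exists_noRoot_four (hr2 : r ≠ 2) (hrF : (r : F) ≠ 0) {m : ℕ}
    (hi : orderOf (Fintype.card F : ZMod r) = 2 * m) (hm : Even m) (hmd : m ≤ d) {μ : F}
    (hμ : ∀ c : F, c * c ≠ μ) (h2 : (2 : F) ≠ 0) :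
    ∃ x ∈ Cfsg.spGL d F, x ^ r = 1 ∧ x ≠ 1 ∧ NoSkewRoot μ x := by
  classical
  have hm0 : 0 < m := by have := Semisimple.orderOf_card_pos (F := F) (r := r) hrF; omega
  have hh : 2 * m = if Even (orderOf (Fintype.card F : ZMod r)) then orderOf (Fintype.card F : ZMod r)
      else 2 * orderOf (Fintype.card F : ZMod r) := by
    rw [hi, if_pos (even_two_mul m)]
  obtain ⟨y, hy, hy1, hyfix⟩ := Semisimple.SympModel.exists_fpf hr2 hrF hh
  obtain ⟨P, hP, -, hPd, hP0⟩ := Semisimple.exists_irreducible_aeval_eq_zero_of_orderOf_eq hrF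
    (f := Matrix.toLinAlgEquiv' (y : Matrix (Fin m ⊕ Fin m) (Fin m ⊕ Fin m) F))
    (by rw [Semisimple.SympModel.finrank_space, hi])
    (by rw [← map_pow, ← SubmonoidClass.coe_pow, hy, OneMemClass.coe_one, map_one])
    (fun h => hy1 (Subtype.ext ((Matrix.toLinAlgEquiv').injective (h.trans (map_one _).symm))))
  rw [Semisimple.SympModel.finrank_space] at hPd
  obtain ⟨xs, ι, π, hxr, hπx, -, -, -, hfixed, hdim⟩ :=
    Semisimple.SympModel.exists_model (d := d) (L := 1) (h := m) (by omega) (fun _ => y) (fun _ => hy)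
      (fun _ => hyfix)
  have hs := Semisimple.SympModel.setting hr2 hrF hxr
  set f := Matrix.toLin' (xs : Matrix κ κ F) with hf
  have hW : Module.finrank F (Semisimple.AltIsometry.moved f) = 2 * m := by
    have := Semisimple.SympModel.finrank_fixed_add_moved hs
    rw [← hf] at this
    rw [one_mul] at hdim
    omega
  set W := Semisimple.AltIsometry.moved f with hWdef
  have hfinv : ∀ w ∈ W, f w ∈ W := fun w hw =>
    Semisimple.AltIsometry.moved_map_le (Submodule.mem_map_of_mem hw)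
  have hπf : ∀ (Q : F[X]) (v : κ → F), π 0 (aeval f Q v) =
      aeval (Matrix.toLinAlgEquiv' (y : Matrix (Fin m ⊕ Fin m) (Fin m ⊕ Fin m) F)) Q (π 0 v) := by
    intro Q
    induction Q using Polynomial.induction_on with
    | C c => intro v; simp [Module.algebraMap_end_apply]
    | add p q hp hq => intro v; simp [hp, hq]
    | monomial n c ih =>
      intro v
      rw [pow_succ, ← mul_assoc, map_mul, map_mul (aeval (Matrix.toLinAlgEquiv' _)), aeval_X, aeval_X,
        Module.End.mul_apply, Module.End.mul_apply, ih]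
      congr 1
      rw [hf, Matrix.toLin'_apply, hπx]
      rfl
  have hkill : ∀ w ∈ W, aeval f P w = 0 := by
    intro w hw
    have h1 : aeval f P w ∈ W :=
      Semisimple.aeval_mem (Semisimple.map_le_of_forall_mem hfinv) P hw
    refine Submodule.disjoint_def.1 hs.isCompl.disjoint _ ((hfixed _).2 fun s => ?_) h1
    rw [Subsingleton.elim s 0, hπf, hP0]
    rfl
  obtain ⟨w0, hw0W, hw0⟩ : ∃ w ∈ W, w ≠ 0 := by
    refine Submodule.exists_mem_ne_zero_of_ne_bot fun h => ?_
    rw [h, finrank_bot] at hW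
    omega
  obtain ⟨W0, hW0inv, hw0W0, hW0d, hW0le, -⟩ :=
    Semisimple.exists_invariant_of_aeval_apply_eq_zero hP hw0 (hkill w0 hw0W)
  have hW0eq : W0 = W := Submodule.eq_of_le_of_finrank_eq (hW0le W (Semisimple.map_le_of_forall_mem hfinv) hw0W)
    (by rw [hW0d, hW, hPd])
  have hcyc : ∀ w ∈ W, ∃ Q : F[X], aeval f Q w0 = w := by
    intro w hw
    let φ : F[X] →ₗ[F] (κ → F) := (LinearMap.applyₗ w0).comp (aeval f).toLinearMap
    have h1 : W0 ≤ LinearMap.range φ := hW0le _ (Semisimple.map_le_of_forall_mem (by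
      rintro _ ⟨p, rfl⟩
      exact ⟨Polynomial.X * p, by simp [φ]⟩)) ⟨1, by simp [φ]⟩
    rw [hW0eq] at h1
    exact h1 hw
  have key : ∀ Q : F[X], aeval f Q w0 = 0 → (aeval (AdjoinRoot.root P)) Q = 0 := by
    intro Q hQ
    by_cases hd : P ∣ Q
    · obtain ⟨c, rfl⟩ := hd
      simp [aeval_def, AdjoinRoot.eval₂_root]
    · obtain ⟨a, b, hab⟩ := hP.coprime_iff_not_dvd.2 hd
      refine absurd ?_ hw0
      calc w0 = aeval f (a * P + b * Q) w0 := by rw [hab, map_one]; rfl
        _ = 0 := by simp [hQ, hkill w0 hw0W]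
  refine ⟨SpTensor.ofSp xs, SpTensor.ofSp_mem xs, by rw [← map_pow, hxr, map_one], fun h => ?_,
    fun j hjj hskew hcomm => ?_⟩
  · have h' : (xs : Matrix κ κ F) = 1 := congrArg (fun t : GL κ F => (t : Matrix κ κ F)) h
    have : W = ⊥ := by
      rw [hWdef, Semisimple.AltIsometry.moved, hf, h', Matrix.toLin'_one, one_smul]
      exact LinearMap.range_eq_bot.2 (sub_eq_zero.2 rfl)
    rw [this, finrank_bot] at hW
    omega
  rw [SpTensor.coe_ofSp] at hcomm
  set jl := Matrix.toLin' j with hjl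
  have hjf : Commute jl f := by
    show jl * f = f * jl
    rw [hjl, hf, Module.End.mul_eq_comp, Module.End.mul_eq_comp, ← Matrix.toLin'_mul, ← Matrix.toLin'_mul, hcomm]
  have hjaeval : ∀ (Q : F[X]) (v : κ → F), jl (aeval f Q v) = aeval f Q (jl v) := by
    have h4 : ∀ Q : F[X], Commute jl (aeval f Q) := by
      intro Q
      induction Q using Polynomial.induction_on' with
      | add p q hp hq => rw [map_add]; exact hp.add_right hq
      | monomial n c => rw [aeval_monomial]; exact (Algebra.commute_algebraMap_right c _).mul_right (hjf.pow_right n)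
    exact fun Q v => LinearMap.congr_fun (h4 Q).eq v
  have hjW : ∀ w ∈ W, jl w ∈ W := by
    rintro _ ⟨v, rfl⟩
    refine ⟨jl v, ?_⟩
    rw [show f - (1 : F) • 1 = aeval f (Polynomial.X - 1 : F[X]) by simp, hjaeval]
  obtain ⟨C0, hC0⟩ := hcyc (jl w0) (hjW w0 hw0W)
  have hjC : ∀ w ∈ W, jl w = aeval f C0 w := by
    intro w hw
    obtain ⟨Q, rfl⟩ := hcyc w hw
    rw [hjaeval, ← hC0, ← Module.End.mul_apply, ← Module.End.mul_apply, ← map_mul, ← map_mul, mul_comm]
  set α := AdjoinRoot.root P with hα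
  haveI : Fact (Irreducible P) := ⟨hP⟩
  set c := aeval α C0 with hc
  have hcc : c * c = algebraMap F _ μ := by
    have h := key (C0 * C0 - C μ) (by
      rw [map_sub, map_mul, aeval_C, LinearMap.sub_apply, Module.End.mul_apply, hC0, ← hjC _ (hjW w0 hw0W),
        Module.algebraMap_end_apply, hjl, Matrix.toLin'_apply, Matrix.toLin'_apply, Matrix.mulVec_mulVec, hjj,
        Matrix.smul_mulVec, Matrix.one_mulVec, sub_self])
    rw [map_sub, map_mul, aeval_C, sub_eq_zero] at h
    exact h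
  have hr1 : 1 ≤ r := (Fact.out : r.Prime).one_le
  set Y : F[X] := Polynomial.X ^ (r - 1) with hY
  have hadj : ∀ (Q : F[X]), ∀ u v, Semisimple.SympModel.formB d F (aeval f Q u) v =
      Semisimple.SympModel.formB d F u (aeval f (Q.comp Y) v) := fun Q u v => by
    rw [hs.aeval_adjoint Q u v, aeval_comp, hY, map_pow, aeval_X]
  have hαY : aeval α (P.comp Y) = 0 := key _ (by
    refine hs.nondeg_moved _ (Semisimple.aeval_mem (Semisimple.map_le_of_forall_mem hfinv) _ hw0W) fun v hv => ?_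
    rw [Semisimple.SympModel.formB_apply, Symp.form_swap, ← Semisimple.SympModel.formB_apply, ← hadj, hkill v hv]
    simp)
  have hαr : α ^ r = 1 := by
    have h := key (Polynomial.X ^ r - 1) (by
      rw [map_sub, map_pow, aeval_X, map_one, hs.pow, sub_self]; rfl)
    simpa [sub_eq_zero] using h
  have hcneg : aeval α (C0.comp Y) = -c := by
    have h := key (C0.comp Y + C0) (by
      refine hs.nondeg_moved _ (Semisimple.aeval_mem (Semisimple.map_le_of_forall_mem hfinv) _ hw0W) fun v hv => ?_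
      rw [Semisimple.SympModel.formB_apply, map_add, LinearMap.add_apply, Symp.form_swap, Symp.form_add_right,
        neg_eq_zero, ← Semisimple.SympModel.formB_apply, ← hadj, ← hjC v hv, Semisimple.SympModel.formB_apply, hC0,
        hjl, Matrix.toLin'_apply, Matrix.toLin'_apply, hskew, neg_add_cancel])
    rw [map_add] at h
    exact eq_neg_of_add_eq_zero_left h
  haveI : FiniteDimensional F (AdjoinRoot P) := (AdjoinRoot.powerBasis hP.ne_zero).finite
  haveI : Finite (AdjoinRoot P) := Module.finite_of_finite F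
  let σ0 : AdjoinRoot P →ₐ[F] AdjoinRoot P := AdjoinRoot.liftAlgHom P (Algebra.ofId F _) (α ^ (r - 1)) (by
    rw [aeval_comp, hY, map_pow, aeval_X] at hαY
    exact hαY)
  let σ : AdjoinRoot P ≃ₐ[F] AdjoinRoot P :=
    AlgEquiv.ofBijective σ0 (Finite.injective_iff_bijective.1 σ0.toRingHom.injective)
  have hσα : σ α = α ^ (r - 1) := by
    show σ0 α = _
    simp [σ0, hα]
  have hσc : σ c = -c := by
    have h : σ c = aeval (σ α) C0 := (aeval_algHom_apply σ.toAlgHom α C0).symm
    rw [h, hσα, ← hcneg, aeval_comp, hY, map_pow, aeval_X]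
  have hσ2 : σ ^ 2 = 1 := by
    refine AlgEquiv.coe_algHom_injective (AdjoinRoot.algHom_ext ?_)
    show σ (σ α) = α
    rw [hσα, map_pow, hσα, ← pow_mul, pow_eq_pow_mod _ hαr]
    have : (r - 1) * (r - 1) % r = 1 := by
      obtain ⟨k, rfl⟩ : ∃ k, r = k + 2 := ⟨r - 2, by have := (Fact.out : r.Prime).two_le; omega⟩
      rw [show (k + 2 - 1) * (k + 2 - 1) = 1 + (k + 2) * k by
        rw [show k + 2 - 1 = k + 1 by omega]; ring, Nat.add_mul_mod_self_left, Nat.one_mod_eq_one.2 (by omega)]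
    rw [this, pow_one]
  have hcard : Nat.card (AdjoinRoot P ≃ₐ[F] AdjoinRoot P) = 2 * m := by
    rw [IsGalois.card_aut_eq_finrank, (AdjoinRoot.powerBasis hP.ne_zero).finrank, AdjoinRoot.powerBasis_dim, hPd]
  obtain ⟨τ, hτ⟩ := IsCyclic.exists_generator (α := AdjoinRoot P ≃ₐ[F] AdjoinRoot P)
  obtain ⟨s, hs'⟩ := (mem_powers_iff_mem_zpowers.2 (hτ σ) : σ ∈ Submonoid.powers τ)
  simp only at hs'
  have hτo : orderOf τ = 2 * m := by rw [orderOf_eq_card_of_forall_mem_zpowers hτ, hcard]
  have hdvd : 2 * m ∣ s * 2 := by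
    rw [← hτo]
    refine orderOf_dvd_of_pow_eq_one ?_
    rw [pow_mul, hs', hσ2]
  obtain ⟨s', hs2⟩ : Even s := by
    obtain ⟨k, hk⟩ := hm
    obtain ⟨t, ht⟩ := hdvd
    exact ⟨k * t, by rw [hk] at ht; linarith⟩
  set τ' := τ ^ s' with hτ'
  have hτc : τ' c = c ∨ τ' c = -c := by
    have : τ' c * τ' c = c * c := by rw [← map_mul, hcc, AlgEquiv.commutes]
    exact mul_self_eq_mul_self_iff.1 this
  have hfix : σ c = c := by
    rw [← hs', hs2, pow_add]
    show τ' (τ' c) = c
    rcases hτc with h | h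
    · rw [h, h]
    · rw [h, map_neg, h, neg_neg]
  have h0 : (algebraMap F (AdjoinRoot P) 2) * c = 0 := by
    rw [map_ofNat, two_mul]; nth_rw 1 [← hfix]; rw [hσc, neg_add_cancel]
  rcases mul_eq_zero.1 h0 with h | h
  · rw [map_eq_zero] at h
    exact h2 h
  · rw [h, mul_zero] at hcc
    exact hμ 0 (by rw [mul_zero]; exact ((map_eq_zero _).1 hcc.symm).symm)

end CfsgLib.Classical.PrimeDerangement.UnitarySp
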