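import Cfsg.Agent.Classical.PrimeDerangement.UnitarySp.Std
import Cfsg.Agent.Classical.Semisimple.PrimeOrder
import Cfsg.Agent.Classical.Symp.Card
import Cfsg.Agent.Eq.Def_GeometricClasses

/-!
The unitary group inside the centraliser of a skew root of a non-square, and prime divisors of the index.
-/

set_option autoImplicit false
set_option maxHeartbeats 800000

namespace CfsgLib.Classical.PrimeDerangement.UnitarySp

open Matrix Polynomial

universe u

variable {F : Type u} [Field F] {d : ℕ}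

local notation "κ" => (Fin d ⊕ Fin d)

/-- Coordinates with respect to `1, θ` multiply as expected. -/
structure QuadCoord {F : Type*} [Field F] (μ : F) (E : Type*) [Field E] [Algebra F E] where
  θ : E
  sq : θ * θ = algebraMap F E μ
  re : E →ₗ[F] F
  im : E →ₗ[F] F
  decomp : ∀ z, z = algebraMap F E (re z) + algebraMap F E (im z) * θ
  re_mk : ∀ a b : F, re (algebraMap F E a + algebraMap F E b * θ) = a
  im_mk : ∀ a b : F, im (algebraMap F E a + algebraMap F E b * θ) = b

namespace QuadCoord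

variable {μ : F} {E : Type*} [Field E] [Algebra F E] (Q : QuadCoord μ E)

theorem re_mul (x y : E) : Q.re (x * y) = Q.re x * Q.re y + μ * (Q.im x * Q.im y) := by
  have e : x * y = algebraMap F E (Q.re x * Q.re y + μ * (Q.im x * Q.im y)) +
      algebraMap F E (Q.re x * Q.im y + Q.im x * Q.re y) * Q.θ := by
    conv_lhs => rw [Q.decomp x, Q.decomp y]
    simp only [map_add, map_mul]
    linear_combination (algebraMap F E (Q.im x) * algebraMap F E (Q.im y)) * Q.sq
  rw [e, Q.re_mk]

theorem im_mul (x y : E) : Q.im (x * y) = Q.re x * Q.im y + Q.im x * Q.re y := by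
  have e : x * y = algebraMap F E (Q.re x * Q.re y + μ * (Q.im x * Q.im y)) +
      algebraMap F E (Q.re x * Q.im y + Q.im x * Q.re y) * Q.θ := by
    conv_lhs => rw [Q.decomp x, Q.decomp y]
    simp only [map_add, map_mul]
    linear_combination (algebraMap F E (Q.im x) * algebraMap F E (Q.im y)) * Q.sq
  rw [e, Q.im_mk]

theorem re_one : Q.re 1 = 1 := by simpa using Q.re_mk 1 0

theorem im_one : Q.im 1 = 0 := by simpa using Q.im_mk 1 0

/-- Realisation of matrices over `E` as matrices over `F`. -/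
def real (M : Matrix (Fin d) (Fin d) E) : Matrix κ κ F :=
  Matrix.fromBlocks (M.map Q.re) (μ • M.map Q.im) (M.map Q.im) (M.map Q.re)

theorem real_one : Q.real (1 : Matrix (Fin d) (Fin d) E) = 1 := by
  rw [real, ← Matrix.fromBlocks_one, Matrix.map_one _ (map_zero _) Q.re_one]
  have : (1 : Matrix (Fin d) (Fin d) E).map Q.im = 0 := by
    ext i j
    by_cases h : i = j <;> simp [h, Q.im_one]
  rw [this, smul_zero]

theorem map_re_mul (M N : Matrix (Fin d) (Fin d) E) :
    (M * N).map Q.re = M.map Q.re * N.map Q.re + μ • (M.map Q.im * N.map Q.im) := by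
  ext i j
  simp [Matrix.mul_apply, Q.re_mul, Finset.sum_add_distrib, Finset.mul_sum]

theorem map_im_mul (M N : Matrix (Fin d) (Fin d) E) :
    (M * N).map Q.im = M.map Q.re * N.map Q.im + M.map Q.im * N.map Q.re := by
  ext i j
  simp [Matrix.mul_apply, Q.im_mul, Finset.sum_add_distrib]

theorem real_mul (M N : Matrix (Fin d) (Fin d) E) : Q.real (M * N) = Q.real M * Q.real N := by
  simp only [real, Matrix.fromBlocks_multiply, map_re_mul, map_im_mul, Matrix.smul_mul, Matrix.mul_smul,
    smul_add]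
  congr 1 <;> abel

theorem real_comm (M : Matrix (Fin d) (Fin d) E) : Q.real M * stdJ d μ = stdJ d μ * Q.real M := by
  simp only [real, stdJ, Matrix.fromBlocks_multiply, Matrix.smul_mul, Matrix.mul_smul, mul_zero, zero_mul,
    mul_one, one_mul, zero_add, add_zero]

theorem real_injective : Function.Injective (Q.real (d := d)) := by
  intro M N h
  rw [real, real, Matrix.fromBlocks_inj] at h
  ext i j
  have h1 := congrFun (congrFun h.1 i) j
  have h2 := congrFun (congrFun h.2.2.1 i) j
  simp only [Matrix.map_apply] at h1 h2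
  rw [Q.decomp (M i j), Q.decomp (N i j), h1, h2]

/-- The vector over `E` of a vector over `F`. -/
def vec (u : κ → F) : Fin d → E := fun a =>
  algebraMap F E (u (Sum.inl a)) + algebraMap F E (u (Sum.inr a)) * Q.θ

theorem vec_real (M : Matrix (Fin d) (Fin d) E) (u : κ → F) : Q.vec (Q.real M *ᵥ u) = M *ᵥ Q.vec u := by
  funext a
  rw [Q.decomp ((M *ᵥ Q.vec u) a)]
  have hre : Q.re ((M *ᵥ Q.vec u) a) = (Q.real M *ᵥ u) (Sum.inl a) := by
    simp [Matrix.mulVec, dotProduct, map_sum, Q.re_mul, vec, Q.re_mk, Q.im_mk, real, Fintype.sum_sum_type,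
      Finset.sum_add_distrib, Finset.mul_sum, mul_assoc]
  have him : Q.im ((M *ᵥ Q.vec u) a) = (Q.real M *ᵥ u) (Sum.inr a) := by
    simp [Matrix.mulVec, dotProduct, map_sum, Q.im_mul, vec, Q.re_mk, Q.im_mk, real, Fintype.sum_sum_type,
      Finset.sum_add_distrib]
    exact add_comm _ _
  rw [hre, him]
  rfl

theorem im_herm {q : ℕ} (hσ : ∀ a b : F, (algebraMap F E a + algebraMap F E b * Q.θ) ^ q =
    algebraMap F E a + algebraMap F E (-b) * Q.θ) (u v : κ → F) :
    Q.im (Cfsg.hermForm d E q (Q.vec u) (Q.vec v)) = Cfsg.sympForm d F u v := by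
  rw [Symp.form_apply, Cfsg.hermForm, map_sum]
  refine Finset.sum_congr rfl fun a _ => ?_
  simp only [vec]
  rw [hσ, Q.im_mul, Q.re_mk, Q.im_mk, Q.re_mk, Q.im_mk]
  ring

end QuadCoord

/-- The unitary group over the quadratic extension embeds into the centraliser. -/
theorem exists_card_dvd [Fintype F] (h2 : (2 : F) ≠ 0) {μ : F} (hμ : ∀ c : F, c * c ≠ μ) :
    ∃ (E : Type u) (_ : Field E) (_ : Fintype E), Fintype.card E = Fintype.card F ^ 2 ∧
      Nat.card (Cfsg.GU d E (Fintype.card F)) ∣ Nat.card (stdCent d μ) := by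
  classical
  set P : F[X] := X ^ 2 - C μ with hP
  have hirr : Irreducible P := X_pow_sub_C_irreducible_of_prime Nat.prime_two fun b h => hμ b (by rw [← h, sq])
  haveI : Fact (Irreducible P) := ⟨hirr⟩
  let pb := AdjoinRoot.powerBasis hirr.ne_zero
  haveI : FiniteDimensional F (AdjoinRoot P) := pb.finite
  haveI : Finite (AdjoinRoot P) := Module.finite_of_finite F
  letI : Fintype (AdjoinRoot P) := Fintype.ofFinite _
  have hdim : pb.dim = 2 := by
    rw [AdjoinRoot.powerBasis_dim, hP, natDegree_X_pow_sub_C]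
  let B := pb.basis.reindex (finCongr hdim)
  have hB0 : B 0 = 1 := by simp [B, pb.basis_eq_pow]
  have hB1 : B 1 = AdjoinRoot.root P := by simp [B, pb.basis_eq_pow, pb, AdjoinRoot.powerBasis_gen]
  have hmk : ∀ a b : F, algebraMap F (AdjoinRoot P) a + algebraMap F (AdjoinRoot P) b * AdjoinRoot.root P =
      a • B 0 + b • B 1 := fun a b => by rw [hB0, hB1, Algebra.smul_def, Algebra.smul_def, mul_one]
  have hsq : AdjoinRoot.root P * AdjoinRoot.root P = algebraMap F (AdjoinRoot P) μ := by
    have h := AdjoinRoot.eval₂_root P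
    simp [hP, sub_eq_zero, sq] at h
    exact h
  let Q : QuadCoord μ (AdjoinRoot P) :=
    { θ := AdjoinRoot.root P
      sq := hsq
      re := B.coord 0
      im := B.coord 1
      decomp := fun z => by
        rw [hmk]
        conv_lhs => rw [← B.sum_repr z, Fin.sum_univ_two]
        rfl
      re_mk := fun a b => by rw [hmk]; simp
      im_mk := fun a b => by rw [hmk]; simp }
  have hcardE : Fintype.card (AdjoinRoot P) = Fintype.card F ^ 2 := by
    rw [Module.card_eq_pow_finrank (K := F), pb.finrank, hdim]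
  refine ⟨AdjoinRoot P, inferInstance, Fintype.ofFinite _, hcardE, ?_⟩
  have hodd : Fintype.card F % 2 = 1 := FiniteField.odd_card_of_char_ne_two fun h => h2 (by
    haveI := ringChar.charP F
    exact_mod_cast (CharP.cast_eq_zero_iff F (ringChar F) 2).2 (h ▸ dvd_rfl))
  have hθq : AdjoinRoot.root P ^ Fintype.card F = -AdjoinRoot.root P := by
    have hchar : ringChar F ≠ 2 := fun h => h2 (by
      haveI := ringChar.charP F
      exact_mod_cast (CharP.cast_eq_zero_iff F (ringChar F) 2).2 (h ▸ dvd_rfl))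
    have hμ0 : μ ≠ 0 := fun h => hμ 0 (by rw [h, mul_zero])
    have hne : μ ^ (Fintype.card F / 2) ≠ 1 := fun h => by
      obtain ⟨c, hc⟩ := (FiniteField.isSquare_iff hchar hμ0).2 h
      exact hμ c hc.symm
    have hpm : μ ^ (Fintype.card F / 2) * μ ^ (Fintype.card F / 2) = 1 := by
      rw [← pow_add, show Fintype.card F / 2 + Fintype.card F / 2 = Fintype.card F - 1 by omega,
        FiniteField.pow_card_sub_one_eq_one μ hμ0]
    have hval : μ ^ (Fintype.card F / 2) = -1 := (mul_self_eq_one_iff.1 hpm).resolve_left hne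
    calc AdjoinRoot.root P ^ Fintype.card F
        = (AdjoinRoot.root P * AdjoinRoot.root P) ^ (Fintype.card F / 2) * AdjoinRoot.root P := by
          rw [← sq, ← pow_mul, ← pow_succ, show 2 * (Fintype.card F / 2) + 1 = Fintype.card F by omega]
      _ = _ := by rw [hsq, ← map_pow, hval, map_neg, map_one, neg_one_mul]
  have hσ : ∀ a b : F, (algebraMap F (AdjoinRoot P) a + algebraMap F (AdjoinRoot P) b * Q.θ) ^ Fintype.card F =
      algebraMap F (AdjoinRoot P) a + algebraMap F (AdjoinRoot P) (-b) * Q.θ := fun a b => by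
    have h := map_add (FiniteField.frobeniusAlgHom F (AdjoinRoot P)) (algebraMap F (AdjoinRoot P) a)
      (algebraMap F (AdjoinRoot P) b * AdjoinRoot.root P)
    rw [map_mul, AlgHom.commutes, AlgHom.commutes] at h
    simp only [FiniteField.coe_frobeniusAlgHom] at h
    show (algebraMap F (AdjoinRoot P) a + algebraMap F (AdjoinRoot P) b * AdjoinRoot.root P) ^ Fintype.card F = _
    rw [h, hθq, map_neg]
    ring
  let φ : Matrix (Fin d) (Fin d) (AdjoinRoot P) →* Matrix κ κ F :=
    { toFun := Q.real, map_one' := Q.real_one, map_mul' := Q.real_mul }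
  let ψ : GL (Fin d) (AdjoinRoot P) →* GL κ F := Units.map φ
  have hψ : ∀ g ∈ Cfsg.GU d (AdjoinRoot P) (Fintype.card F), ψ g ∈ stdCent d μ := fun g hg =>
    ⟨SympFormStd.mem_spGL.2 fun u v => by
      show Cfsg.sympForm d F (Q.real (g : Matrix (Fin d) (Fin d) (AdjoinRoot P)) *ᵥ u)
        (Q.real (g : Matrix (Fin d) (Fin d) (AdjoinRoot P)) *ᵥ v) = _
      rw [← Q.im_herm hσ, ← Q.im_herm hσ u v, Q.vec_real, Q.vec_real]
      exact congrArg Q.im (hg _ _), Q.real_comm _⟩
  refine Subgroup.card_dvd_of_injective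
    ((ψ.comp (Cfsg.GU d (AdjoinRoot P) (Fintype.card F)).subtype).codRestrict (stdCent d μ) fun g => hψ g g.2) ?_
  intro g h e
  exact Subtype.ext (Units.ext (Q.real_injective (congrArg (fun t : stdCent d μ =>
    ((t : GL κ F) : Matrix κ κ F)) e)))

/-- Primes with order `2 m`, `m` odd, do not divide the index. -/
theorem not_dvd_relIndex [Fintype F] (h2 : (2 : F) ≠ 0) {μ : F} (hμ : ∀ c : F, c * c ≠ μ) {r : ℕ} [Fact r.Prime]
    (hr2 : r ≠ 2) (hrF : (r : F) ≠ 0) {m : ℕ} (hm : Odd m) (hi : orderOf (Fintype.card F : ZMod r) = 2 * m)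
    {H : Subgroup (GL κ F)} {g : GL κ F} (hg : g ∈ Cfsg.spGL d F)
    (hH : ∀ x ∈ stdCent d μ, g * x * g⁻¹ ∈ H) :
    ¬ r ∣ H.relIndex (Cfsg.spGL d F) := by
  classical
  intro hdvd
  set S := Cfsg.spGL d F
  obtain ⟨E, iE, fE, hcardE, hGU⟩ := exists_card_dvd (d := d) h2 hμ
  have h1 : Nat.card (stdCent d μ) ∣ Nat.card (H.subgroupOf S) := by
    refine Subgroup.card_dvd_of_injective (((MulAut.conj g).toMonoidHom.comp (stdCent d μ).subtype).codRestrict S
      (fun x => mul_mem (mul_mem hg x.2.1) (inv_mem hg)) |>.codRestrict (H.subgroupOf S) fun x => hH _ x.2) ?_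
    intro a b h
    exact Subtype.ext ((MulAut.conj g).injective (congrArg (fun t : H.subgroupOf S => ((t : S) : GL κ F)) h))
  have h3 : r * Nat.card (Cfsg.GU d E (Fintype.card F)) ∣ Nat.card S := by
    rw [← (H.subgroupOf S).index_mul_card]
    exact mul_dvd_mul hdvd (hGU.trans h1)
  have hSp : Nat.card S = Nat.card (Matrix.symplecticGroup (Fin d) F) :=
    Nat.card_congr ⟨fun g => ⟨(g.1 : Matrix κ κ F), (Symp.mem_symplecticGroup_iff_form _).2 g.2⟩,
      fun g => ⟨(Matrix.symplecticGroup (Fin d) F).subtype.toHomUnits g, fun u v => Symp.form_mulVec g u v⟩,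
      fun g => Subtype.ext (Units.ext rfl), fun g => Subtype.ext rfl⟩
  rw [hSp, Symp.card_symplecticGroup, Unitary.card_GU hcardE] at h3
  set q := Fintype.card F with hq
  have hprod : ∀ i, (if Even i then q ^ (i + 1) + 1 else q ^ (i + 1) - 1) *
      (if Even i then q ^ (i + 1) - 1 else q ^ (i + 1) + 1) = q ^ (2 * (i + 1)) - 1 := fun i => by
    rw [mul_comm 2 (i + 1), pow_mul, sq]
    by_cases h : Even i
    · rw [if_pos h, if_pos h]; exact (Nat.mul_self_sub_mul_self_eq (q ^ (i + 1)) 1).symm.trans (by rw [mul_one])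
    · rw [if_neg h, if_neg h, mul_comm]; exact (Nat.mul_self_sub_mul_self_eq (q ^ (i + 1)) 1).symm.trans (by rw [mul_one])
  rw [← Finset.prod_congr rfl fun i _ => hprod i, Finset.prod_mul_distrib] at h3
  set A := ∏ i ∈ Finset.range d, (if Even i then q ^ (i + 1) + 1 else q ^ (i + 1) - 1) with hA
  set B := ∏ i ∈ Finset.range d, (if Even i then q ^ (i + 1) - 1 else q ^ (i + 1) + 1) with hB
  have hq1 : 1 < q := Fintype.one_lt_card
  have hA0 : 0 < A := Finset.prod_pos fun i _ => by
    have : 1 < q ^ (i + 1) := Nat.one_lt_pow (Nat.succ_ne_zero i) hq1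
    split_ifs <;> omega
  have h4 : r * A ∣ q ^ (d ^ 2) * B * A := by
    have : r * A ∣ r * (q ^ (d * (d - 1) / 2) * A) := Nat.mul_dvd_mul_left r (dvd_mul_left _ _)
    exact this.trans (h3.trans (dvd_of_eq (by ring)))
  have h5 : r ∣ q ^ (d ^ 2) * B := Nat.dvd_of_mul_dvd_mul_right hA0 h4
  have hrp := (Fact.out : r.Prime)
  rcases hrp.dvd_mul.1 h5 with h | h
  · exact Semisimple.card_ne_zero_mod hrF ((ZMod.natCast_eq_zero_iff _ _).2 (hrp.dvd_of_dvd_pow h))
  · obtain ⟨i, -, hi'⟩ := (Nat.Prime.prime hrp).exists_mem_finset_dvd h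
    have hpow : ∀ k, orderOf (q : ZMod r) ∣ k ↔ (q : ZMod r) ^ k = 1 := fun k => orderOf_dvd_iff_pow_eq_one
    rw [hi] at hpow
    by_cases he : Even i
    · rw [if_pos he, ← ZMod.natCast_eq_zero_iff, Nat.cast_sub (Nat.one_le_pow _ _ (by omega)), sub_eq_zero,
        Nat.cast_pow, Nat.cast_one] at hi'
      obtain ⟨c, hc⟩ := (hpow (i + 1)).2 hi'
      obtain ⟨k, hk⟩ := he
      rw [mul_assoc] at hc
      omega
    · rw [if_neg he, ← ZMod.natCast_eq_zero_iff, Nat.cast_add, Nat.cast_pow, Nat.cast_one] at hi'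
      have hm1 : (q : ZMod r) ^ (i + 1) = -1 := eq_neg_of_add_eq_zero_left hi'
      have h7 : 2 * m ∣ (i + 1) * 2 := (hpow _).2 (by rw [pow_mul, hm1, neg_one_sq])
      obtain ⟨k, hk⟩ := Nat.not_even_iff_odd.1 he
      have h8 : m ∣ (k + 1) * 2 :=
        Nat.dvd_of_mul_dvd_mul_left two_pos (h7.trans (dvd_of_eq (by rw [hk]; ring)))
      have h9 : m ∣ k + 1 := (Nat.Coprime.dvd_mul_right (Nat.coprime_two_right.2 hm)).1 h8
      have h10 : 2 * m ∣ i + 1 := (Nat.mul_dvd_mul_left 2 h9).trans (dvd_of_eq (by rw [hk]; ring))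
      have h11 := (hpow _).1 h10
      rw [hm1] at h11
      exact hr2 ((Nat.prime_dvd_prime_iff_eq hrp Nat.prime_two).1 ((ZMod.natCast_eq_zero_iff 2 r).1 (by
        rw [Nat.cast_ofNat]; linear_combination -h11)))

end CfsgLib.Classical.PrimeDerangement.UnitarySp
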