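import Cfsg.Agent.Classical.PrimeDerangement.UnitarySp.Embed
import Cfsg.Agent.Classical.PrimeDerangement.UnitarySp.Derange
import Cfsg.Agent.Classical.PrimeDerangement.SpTensorMain

/-!
Which prime orders are covered by the conjugates of the normaliser of a skew quadratic field.
-/

set_option autoImplicit false
set_option maxHeartbeats 800000

namespace CfsgLib.Classical.PrimeDerangement.UnitarySp

open Matrix

variable {F : Type*} [Field F] {d : ℕ}

local notation "κ" => (Fin d ⊕ Fin d)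

/-- An element commuting or anticommuting with the standard root gives a conjugate in the normaliser. -/
theorem conj_of_std {K : Subalgebra F (Matrix κ κ F)} {j : Matrix κ κ F} {μ : F} (hjK : j ∈ K)
    (hgen : ∀ k ∈ K, ∃ s t : F, k = s • (1 : Matrix κ κ F) + t • j) {g0 : GL κ F} (hg0 : g0 ∈ Cfsg.spGL d F)
    (hframe : j * (g0 : Matrix κ κ F) = (g0 : Matrix κ κ F) * stdJ d μ) {x t : GL κ F} (hx : x ∈ Cfsg.spGL d F)
    (ht : t ∈ Cfsg.spGL d F) {ε : F} (hε : ε * ε = 1)
    (htJ : (t : Matrix κ κ F) * stdJ d μ = ε • (stdJ d μ * (t : Matrix κ κ F)))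
    (hc : IsConj (SpTensor.toSp ht) (SpTensor.toSp hx)) :
    ∃ g ∈ Cfsg.spGL d F, g⁻¹ * x * g ∈ Cfsg.Geo.subalgebraNormalizer K := by
  obtain ⟨c, hcm, hct⟩ := SpTensor.exists_conj_of_isConj hx ht hc
  refine ⟨c * g0⁻¹, mul_mem hcm (inv_mem hg0), ?_⟩
  rw [show (c * g0⁻¹)⁻¹ * x * (c * g0⁻¹) = g0 * (c⁻¹ * x * c) * g0⁻¹ by group, hct]
  refine mem_normalizer_of_conj hjK hgen (ε := ε) hε ?_
  have hj : j = (g0 : Matrix κ κ F) * stdJ d μ * ((g0⁻¹ : GL κ F) : Matrix κ κ F) := by
    rw [← hframe, mul_assoc, Units.mul_inv, mul_one]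
  rw [hj]
  simp only [Units.val_mul, _root_.mul_inv_rev, inv_inv, mul_assoc, Units.inv_mul_cancel_left]
  rw [← mul_assoc (t : Matrix κ κ F), htJ]
  simp [mul_assoc]

/-- Every element of order two has a conjugate in the normaliser. -/
theorem conj_two [Finite F] (h2 : (2 : F) ≠ 0) (hd : 0 < d) {K : Subalgebra F (Matrix κ κ F)} {j : Matrix κ κ F}
    {μ : F} (hμ : ∀ c : F, c * c ≠ μ) (hjK : j ∈ K)
    (hgen : ∀ k ∈ K, ∃ s t : F, k = s • (1 : Matrix κ κ F) + t • j) {g0 : GL κ F} (hg0 : g0 ∈ Cfsg.spGL d F)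
    (hframe : j * (g0 : Matrix κ κ F) = (g0 : Matrix κ κ F) * stdJ d μ) {x : GL κ F} (hx : x ∈ Cfsg.spGL d F) {z : F}
    (hz : ((x ^ 2 : GL κ F) : Matrix κ κ F) = z • 1) :
    ∃ g ∈ Cfsg.spGL d F, g⁻¹ * x * g ∈ Cfsg.Geo.subalgebraNormalizer K := by
  classical
  have hx2 : (x : Matrix κ κ F) * (x : Matrix κ κ F) = z • 1 := by rw [← Units.val_mul, ← pow_two, hz]
  rcases mul_self_eq_one_iff.1 (SpTensor.sq_eq_one_of_scalar hd (pow_mem hx 2) hz) with rfl | rfl
  · have h1 : SpTensor.toSp hx * SpTensor.toSp hx = 1 := Subtype.ext (by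
      show (x : Matrix κ κ F) * (x : Matrix κ κ F) = 1
      rw [hx2, one_smul])
    obtain ⟨h, s, hs⟩ := Symp.exists_signPattern h2 h1
    set t := SpTensor.ofSp (h * SpTensor.toSp hx * h⁻¹) with ht
    refine conj_of_std hjK hgen hg0 hframe hx (SpTensor.ofSp_mem _ : t ∈ _) (ε := 1) (one_mul _) ?_
      (IsConj.symm (isConj_iff.2 ⟨h, Subtype.ext rfl⟩))
    rw [one_smul, SpTensor.coe_ofSp, SpTensor.diagonal_of_signPattern hs]
    ext k l
    rcases k with k | k <;> rcases l with l | l <;> by_cases hkl : k = l <;>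
      simp [stdJ, Matrix.diagonal_mul, Matrix.mul_diagonal, Matrix.one_apply, hkl]
    all_goals ring
  · haveI : Fintype F := Fintype.ofFinite F
    have hμ0 : μ ≠ 0 := fun h => hμ 0 (by rw [h, mul_zero])
    obtain ⟨α, γ, hαγ⟩ : ∃ α γ : F, α * α - μ * (γ * γ) = -1 := by
      obtain ⟨u, w, huw⟩ := FiniteField.exists_root_sum_quadratic (f := (Polynomial.X ^ 2 : Polynomial F))
        (g := -Polynomial.C μ * Polynomial.X ^ 2 - Polynomial.C (-1))
        (Polynomial.degree_X_pow 2) (by compute_degree!)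
        (FiniteField.odd_card_of_char_ne_two fun h => h2 (by
          haveI := ringChar.charP F
          exact_mod_cast (CharP.cast_eq_zero_iff F (ringChar F) 2).2 (h ▸ dvd_rfl)))
      simp only [Polynomial.eval_pow, Polynomial.eval_X, Polynomial.eval_sub, Polynomial.eval_C, Polynomial.eval_mul,
        Polynomial.eval_neg] at huw
      exact ⟨u, w, by linear_combination huw⟩
    set T : Matrix κ κ F := Matrix.fromBlocks (α • 1) ((-μ * γ) • 1) (γ • 1) ((-α) • 1) with hT
    have hTT : T * T = -1 := by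
      rw [hT, Matrix.fromBlocks_multiply, ← Matrix.fromBlocks_one, Matrix.fromBlocks_neg]
      congr 1 <;> simp only [Matrix.smul_mul, Matrix.mul_smul, smul_smul, ← add_smul, one_mul, neg_zero]
      · rw [show α * α + γ * (-μ * γ) = -1 by linear_combination hαγ, neg_one_smul]
      · rw [show -μ * γ * α + -α * (-μ * γ) = 0 by ring, zero_smul]
      · rw [show α * γ + γ * -α = 0 by ring, zero_smul]
      · rw [show -μ * γ * γ + -α * -α = -1 by linear_combination hαγ, neg_one_smul]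
    have hTs : T ∈ Matrix.symplecticGroup (Fin d) F := by
      rw [SymplecticGroup.mem_iff', hT]
      simp only [Matrix.J, Matrix.fromBlocks_transpose, Matrix.fromBlocks_multiply, Matrix.transpose_smul,
        Matrix.transpose_one, Matrix.smul_mul, Matrix.mul_smul, mul_zero, zero_mul, mul_one, one_mul, zero_add,
        add_zero, smul_neg, smul_smul, mul_neg, neg_mul, ← neg_smul, ← add_smul]
      congr 1
      · rw [show α * γ + -(γ * α) = 0 by ring, zero_smul]
      · conv_rhs => rw [← neg_one_smul F (1 : Matrix (Fin d) (Fin d) F)]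
        congr 1; linear_combination hαγ
      · conv_rhs => rw [← one_smul F (1 : Matrix (Fin d) (Fin d) F)]
        congr 1; linear_combination -hαγ
      · convert zero_smul F (1 : Matrix (Fin d) (Fin d) F) using 2; ring
    set t := SpTensor.ofSp (⟨T, hTs⟩ : Matrix.symplecticGroup (Fin d) F) with ht
    refine conj_of_std hjK hgen hg0 hframe hx (SpTensor.ofSp_mem _ : t ∈ _) (ε := -1) (by ring) ?_
      (Symp.isConj_of_sq_eq_neg_one h2 hTT (by
        show (x : Matrix κ κ F) * (x : Matrix κ κ F) = -1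
        rw [hx2, neg_one_smul]))
    rw [SpTensor.coe_ofSp]
    show T * stdJ d μ = (-1 : F) • (stdJ d μ * T)
    rw [hT, stdJ]
    simp only [Matrix.fromBlocks_multiply, Matrix.fromBlocks_smul, Matrix.smul_mul, Matrix.mul_smul, mul_zero,
      zero_mul, mul_one, one_mul, zero_add, add_zero, smul_smul]
    congr 1 <;> congr 1 <;> ring

/-- The criterion. -/
theorem criterion [Fintype F] {p : ℕ} [Fact p.Prime] [CharP F p] (h2 : (2 : F) ≠ 0) (hd : 0 < d)
    {K : Subalgebra F (Matrix κ κ F)} (hK : Cfsg.Geo.IsFieldSubalgebra 2 K)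
    (hKf : Cfsg.Geo.IsAdjointClosedFor (Cfsg.sympForm d F) K)
    (hKns : ¬ Cfsg.Geo.IsSelfAdjointFor (Cfsg.sympForm d F) K) {r : ℕ} [Fact r.Prime]
    (hΩ : r ∣ (Cfsg.Geo.subalgebraNormalizer K).relIndex (Cfsg.spGL d F)) :
    (∀ x ∈ Cfsg.spGL d F, (∃ z : F, ((x ^ r : GL κ F) : Matrix κ κ F) = z • 1) →
      (∀ z : F, (x : Matrix κ κ F) ≠ z • 1) →
      ∃ g ∈ Cfsg.spGL d F, g⁻¹ * x * g ∈ Cfsg.Geo.subalgebraNormalizer K) ↔ r = 2 := by
  classical
  obtain ⟨j, μ, hjK, hμ, hjj, hgen, hskew⟩ := exists_skew_generator h2 hd hK hKf hKns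
  obtain ⟨g0, hg0, hframe⟩ := exists_frame h2 hμ hjj hskew
  constructor
  · intro hall
    by_contra hr2
    have hrodd := (Fact.out : r.Prime).odd_of_ne_two hr2
    have fail : ∀ x ∈ Cfsg.spGL d F, x ^ r = 1 → x ≠ 1 → NoSkewRoot μ x → False := by
      intro x hx hxr hx1 hno
      obtain ⟨g, hg, hgN⟩ := hall x hx ⟨1, by rw [hxr, Units.val_one, one_smul]⟩ fun z hz => by
        have hz2 := SpTensor.sq_eq_one_of_scalar hd hx hz
        have hzr := congrArg (fun t : GL κ F => (t : Matrix κ κ F) (Sum.inl ⟨0, hd⟩) (Sum.inl ⟨0, hd⟩)) hxr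
        simp only [Units.val_pow_eq_pow_val, hz, _root_.smul_pow, one_pow, Units.val_one, Matrix.smul_apply,
          Matrix.one_apply_eq, smul_eq_mul, mul_one] at hzr
        obtain ⟨k, hk⟩ := hrodd
        rw [hk, pow_succ, pow_mul, pow_two, hz2, one_pow, one_mul] at hzr
        exact hx1 (Units.ext (by rw [hz, hzr, one_smul, Units.val_one]))
      have hyr : (g⁻¹ * x * g) ^ r = 1 := by
        rw [show g⁻¹ * x * g = g⁻¹ * x * (g⁻¹)⁻¹ by rw [inv_inv], conj_pow, hxr]; simp
      have hcomm := comm_of_mem_normalizer h2 hK hjK hμ hjj hgN hrodd hyr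
      have hxg : (x : Matrix κ κ F) * (g : Matrix κ κ F) =
          (g : Matrix κ κ F) * ((g⁻¹ * x * g : GL κ F) : Matrix κ κ F) := by
        simp [Units.val_mul, mul_assoc, Units.mul_inv_cancel_left]
      refine hno ((g : Matrix κ κ F) * j * ((g⁻¹ : GL κ F) : Matrix κ κ F)) ?_ (fun u v => ?_) ?_
      · simp only [mul_assoc, Units.inv_mul_cancel_left]
        rw [← mul_assoc j, hjj, Matrix.smul_mul, one_mul, Matrix.mul_smul, Units.mul_inv]
      · have hgi := SympFormStd.mem_spGL.1 (inv_mem hg)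
        have hgg := SympFormStd.mem_spGL.1 hg
        rw [← Matrix.mulVec_mulVec, ← Matrix.mulVec_mulVec, ← Matrix.mulVec_mulVec, ← Matrix.mulVec_mulVec,
          ← hgi, Matrix.mulVec_mulVec _ ((g⁻¹ : GL κ F) : Matrix κ κ F) (g : Matrix κ κ F), Units.inv_mul,
          Matrix.one_mulVec, hskew, ← hgg, Matrix.mulVec_mulVec _ (g : Matrix κ κ F) ((g⁻¹ : GL κ F) : Matrix κ κ F),
          Units.mul_inv, Matrix.one_mulVec]
      · calc (x : Matrix κ κ F) * ((g : Matrix κ κ F) * j * ((g⁻¹ : GL κ F) : Matrix κ κ F))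
            = (g : Matrix κ κ F) * (((g⁻¹ * x * g : GL κ F) : Matrix κ κ F) * j) *
              ((g⁻¹ : GL κ F) : Matrix κ κ F) := by rw [← mul_assoc, ← mul_assoc, hxg, ← mul_assoc]
          _ = _ := by
              rw [hcomm]
              simp [Units.val_mul, mul_assoc]
    by_cases hrF : (r : F) = 0
    · have hrp : p = r :=
        (Nat.prime_dvd_prime_iff_eq (Fact.out : p.Prime) (Fact.out : r.Prime)).1 ((CharP.cast_eq_zero_iff F p r).1 hrF)
      subst hrp
      obtain ⟨x, hx, h1, h2', h3⟩ := exists_noRoot_p (p := p) hd hμ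
      exact fail x hx h1 h2' h3
    obtain ⟨h, hhd, hh⟩ := SpTensor.orderOf_half_le (d := d) hr2 hrF (hΩ.trans (Subgroup.relIndex_dvd_card _ _))
    by_cases hev : Even (orderOf (Fintype.card F : ZMod r))
    · rw [if_pos hev] at hh
      by_cases hm : Even h
      · obtain ⟨x, hx, h1, h2', h3⟩ := exists_noRoot_four hr2 hrF hh.symm hm hhd hμ h2
        exact fail x hx h1 h2' h3
      · refine not_dvd_relIndex h2 hμ hr2 hrF (Nat.not_even_iff_odd.1 hm) hh.symm hg0 (fun t ht => ?_) hΩ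
        refine mem_normalizer_of_conj hjK hgen (ε := 1) (one_mul 1) ?_
        have hj : j = (g0 : Matrix κ κ F) * stdJ d μ * ((g0⁻¹ : GL κ F) : Matrix κ κ F) := by
          rw [← hframe, mul_assoc, Units.mul_inv, mul_one]
        rw [hj, one_smul]
        simp only [Units.val_mul, _root_.mul_inv_rev, inv_inv, mul_assoc, Units.inv_mul_cancel_left]
        rw [← mul_assoc (t : Matrix κ κ F), ht.2]
        simp [mul_assoc]
    · rw [if_neg hev] at hh
      obtain ⟨x, hx, h1, h2', h3⟩ := exists_noRoot_odd h2 hr2 hrF (Nat.not_even_iff_odd.1 hev) (d := d) (by omega) hμ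
      exact fail x hx h1 h2' h3
  · rintro rfl x hx ⟨z, hz⟩ -
    exact conj_two h2 hd hμ hjK hgen hg0 hframe hx hz

end CfsgLib.Classical.PrimeDerangement.UnitarySp
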